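import Cfsg.Agent.M23Cent.Embed

/-!
# Facts about the transpositions of Fi₂₃ and the products of two that commute
-/

set_option autoImplicit false
set_option linter.unusedSectionVars false

open Cfsg
open Cfsg.Agent.ThreeTrans

namespace Cfsg.Agent.M23Cent

attribute [local instance] finite_X23

theorem T_data : M23Data T := m23Data T_group T_prim T_type

/-- The layers. -/
theorem T_layer {p : X23} (hp : p ∈ T) : M22Layer (dperp T p) := by
  obtain ⟨X₀, _, _, E₀, hE₀, -, h22₀, hcov₀⟩ := exists_cover23 T_group T_prim T_type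
  exact layers23 T_group hE₀ h22₀ hcov₀ p hp

theorem T_card : T.ncard = 31671 :=
  ncard_members23 T_group (fun _ hp => T_layer hp) (mem_conjugatesOf_self : Fi23Out.z ∈ T)

theorem T_centralizer {p : X23} (hp : p ∈ T) :
    Subgroup.centralizer ({p} : Set X23) = Subgroup.closure (dperp T p) ∧
      ⁅Subgroup.centralizer ({p} : Set X23), Subgroup.centralizer ({p} : Set X23)⁆ =
        Subgroup.centralizer ({p} : Set X23) := by
  obtain ⟨X₀, _, _, E₀, -, -, -, hcov₀⟩ := exists_cover23 T_group T_prim T_type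
  exact ⟨(hcov₀ p hp).top, (hcov₀ p hp).perfect⟩

/-- Members of a layer that do not commute have a common neighbour in it. -/
theorem T_diam {p : X23} (hp : p ∈ T) : Diam (dperp T p) := fun a ha b hb hab => by
  obtain ⟨u, hu, hu'⟩ := Set.nonempty_of_ncard_ne_zero
    (show {v | v ∈ dperp (dperp T p) a ∧ Commute b v}.ncard ≠ 0 by
      rw [(T_layer hp).common a ha b hb hab]; norm_num)
  exact ⟨u, hu, hu'.symm⟩

/-- The products of two commuting transpositions. -/
def J : Set X23 := {y | ∃ p ∈ T, ∃ q ∈ dperp T p, y = p * q}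

theorem J_sq {y : X23} (hy : y ∈ J) : y * y = 1 := by
  obtain ⟨p, hp, q, hq, rfl⟩ := hy
  rw [hq.2.2.symm.mul_mul_mul_comm, mul_self T_group.1 hp, mul_self T_group.1 hq.1, one_mul]

theorem J_notMem {y : X23} (hy : y ∈ J) : y ∉ T := by
  obtain ⟨X₀, _, _, E₀, hE₀, hcls₀, h22₀, hcov₀⟩ := exists_cover23 T_group T_prim T_type
  intro hyT
  obtain ⟨p, hp, q, hq, rfl⟩ := hy
  have h := (involution_classes_M23 T_group T_class T_data hE₀ hcls₀ h22₀ hcov₀).2 1 2 (p * q) le_rfl
    (by norm_num) (by norm_num) (by norm_num) ⟨_, factor_one hyT⟩ ⟨_, factor_two hp hq⟩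
  omega

/-- Every element of square one commutes with a transposition. -/
theorem exists_commute {y : X23} (hy : y * y = 1) : ∃ x ∈ T, Commute y x := by
  obtain ⟨X₀, _, _, E₀, hE₀, hcls₀, h22₀, hcov₀⟩ := exists_cover23 T_group T_prim T_type
  exact exists_fixed_member23 T_group T_class T_data hE₀ hcls₀ h22₀ hcov₀ hy

/-- The pair of a product is unique. -/
theorem pair_conj {p q g : X23} (hp : p ∈ T) (hq : q ∈ dperp T p) (hg : Commute g (p * q)) :
    g * p * g⁻¹ = p ∨ g * p * g⁻¹ = q := by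
  have h' : Factor T 2 (p * q) ([p, q].map fun x => g * x * g⁻¹) := by
    have h := (factor_two hp hq).conj T_group.2.1 g
    rwa [hg.eq, mul_inv_cancel_right] at h
  have := (Factor.pair T_group.1 T_data.noTwins h' (factor_two hp hq) (g * p * g⁻¹)).1 (by simp)
  simpa using this

/-- A member commuting with a product commutes with its factors. -/
theorem commute_factors {p q f : X23} (hp : p ∈ T) (hq : q ∈ dperp T p) (hf : f ∈ T)
    (hc : Commute f (p * q)) : Commute f p ∧ Commute f q := by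
  have hfp : Commute f p := by
    rcases pair_conj hp hq hc with h | h
    · exact mul_inv_eq_iff_eq_mul.1 h
    · by_contra hnc
      have h3 : f * p * f = p * f * p := braid T_group.1 hf hp hnc
      rw [inv_eq T_group.1 hf, h3] at h
      have hcc : Commute p (p * f * p) := h ▸ hq.2.2
      refine hnc ?_
      have := hcc.eq
      rw [← mul_assoc, ← mul_assoc, mul_self T_group.1 hp, one_mul, mul_assoc (p * f) p p,
        mul_self T_group.1 hp, mul_one] at this
      exact this
  refine ⟨hfp, ?_⟩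
  have h' := hfp.mul_right hc
  rwa [← mul_assoc, mul_self T_group.1 hp, one_mul] at h'

/-- The centraliser of a product has no nontrivial normal subgroup of odd order. -/
theorem odd_normal_trivial {p q : X23} (hp : p ∈ T) (hq : q ∈ dperp T p) (Q : Subgroup X23)
    (hQ : Q ≤ Subgroup.centralizer ({p * q} : Set X23))
    (hn : ∀ c ∈ Subgroup.centralizer ({p * q} : Set X23), ∀ x ∈ Q, c * x * c⁻¹ ∈ Q)
    (hodd : Odd (Nat.card Q)) : Q = ⊥ := by
  classical
  obtain ⟨X₀, _, _, E₀, hE₀, hcls₀, h22₀, hcov₀⟩ := exists_cover23 T_group T_prim T_type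
  have hmaps := (hcov₀ p hp).maps
  set C := Subgroup.centralizer ({p} : Set X23) with hC
  obtain ⟨χ, ψ, hχ, hker, hagree, hiso⟩ := hmaps
  have hpp := mul_self T_group.1 hp
  have hno2 : ∀ (R : Subgroup X23), Odd (Nat.card R) → ∀ x ∈ R, orderOf x ≠ 2 := fun R hR x hx h2 =>
    Nat.not_even_iff_odd.2 hR (even_iff_two_dvd.2
      (h2 ▸ (Subgroup.orderOf_mk x hx) ▸ orderOf_dvd_natCard _))
  -- the members of the pair are fixed
  have hfix : ∀ y ∈ Q, Commute y p ∧ Commute y q := by
    intro y hy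
    have hyj : Commute y (p * q) := Subgroup.mem_centralizer_singleton_iff.1 (hQ hy)
    have h2 : Commute (y * y) p := by
      rcases pair_conj hp hq hyj with h | h
      · have h' : Commute y p := mul_inv_eq_iff_eq_mul.1 h
        exact h'.mul_left h'
      · refine mul_inv_eq_iff_eq_mul.1 ?_
        calc y * y * p * (y * y)⁻¹ = y * (y * p * y⁻¹) * y⁻¹ := by group
          _ = y * q * y⁻¹ := by rw [h]
          _ = y * (p * (p * q)) * y⁻¹ := by rw [← mul_assoc p, hpp, one_mul]
          _ = (y * p * y⁻¹) * (y * (p * q) * y⁻¹) := by group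
          _ = q * (p * q) := by rw [h, hyj.eq, mul_inv_cancel_right]
          _ = p := by rw [hq.2.2.eq, ← mul_assoc, mul_self T_group.1 hq.1, one_mul]
    have hodd' : Odd (orderOf y) :=
      Odd.of_dvd_nat hodd ((Subgroup.orderOf_mk y hy) ▸ orderOf_dvd_natCard _)
    obtain ⟨m, hm⟩ := hodd'
    have hy' : y = (y * y) ^ (m + 1) := by
      rw [← pow_two, ← pow_mul, show 2 * (m + 1) = orderOf y + 1 by omega, pow_succ, pow_orderOf_eq_one,
        one_mul]
    have hyp : Commute y p := by rw [hy']; exact h2.pow_left _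
    refine ⟨hyp, ?_⟩
    have := hyp.mul_right hyj
    rwa [← mul_assoc, hpp, one_mul] at this
  have hqC : q ∈ C := Subgroup.mem_centralizer_singleton_iff.2 hq.2.2.symm.eq
  have he : ψ q ∈ E₀ := hiso.bij.mapsTo hq
  set W := Subgroup.centralizer ({ψ q} : Set X₀) with hW
  set Q₀ : Subgroup X₀ := (Q.subgroupOf C).map χ with hQ₀
  have hQ₀W : Q₀ ≤ W := by
    rintro _ ⟨y, hy, rfl⟩
    rw [hW, Subgroup.mem_centralizer_singleton_iff, hagree ⟨q, hqC⟩, ← map_mul, ← map_mul]
    congr 1
    exact Subtype.ext (hfix y hy).2.eq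
  have hQ₀n : ∀ c ∈ W, ∀ x ∈ Q₀, c * x * c⁻¹ ∈ Q₀ := by
    rintro c hc _ ⟨y, hy, rfl⟩
    obtain ⟨g, rfl⟩ := hχ c
    have hgp : Commute (g : X23) p := Subgroup.mem_centralizer_singleton_iff.1 g.2
    have hgq : (g : X23) * q * (g : X23)⁻¹ = q := by
      have hmem : (g : X23) * q * (g : X23)⁻¹ ∈ dperp T p := by
        have := dperp_conj T_group.2.1 (g : X23) hq
        rwa [hgp.eq, mul_inv_cancel_right] at this
      refine hiso.bij.injOn hmem hq ?_
      rw [show (g : X23) * q * (g : X23)⁻¹ = ((g * ⟨q, hqC⟩ * g⁻¹ : C) : X23) from rfl, hagree,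
        map_mul, map_mul, map_inv, ← hagree ⟨q, hqC⟩]
      exact mul_inv_eq_iff_eq_mul.2 (Subgroup.mem_centralizer_singleton_iff.1 hc)
    have hgj : (g : X23) ∈ Subgroup.centralizer ({p * q} : Set X23) :=
      Subgroup.mem_centralizer_singleton_iff.2 (hgp.mul_right (mul_inv_eq_iff_eq_mul.1 hgq)).eq
    exact ⟨g * y * g⁻¹, hn _ hgj _ hy, by rw [map_mul, map_mul, map_inv]⟩
  have hQC : Q ≤ C := fun y hy => Subgroup.mem_centralizer_singleton_iff.2 (hfix y hy).1.eq
  have hodd₀ : Odd (Nat.card Q₀) := Odd.of_dvd_nat hodd (by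
    refine (Subgroup.card_map_dvd _ χ).trans ?_
    rw [Nat.card_congr (Subgroup.subgroupOfEquivOfLe hQC).toEquiv])
  -- inside the centraliser of a member of type M(22)
  have heE : E₀ \ {1} = E₀ := Set.sdiff_singleton_eq_self fun h1 => ne_one hE₀.1 h1 rfl
  obtain ⟨F, _, _, hF, hquot⟩ := m22_quotient (by rwa [heE]) h22₀
  rw [heE] at hquot
  obtain ⟨ρ, hρ, hρker⟩ := hquot _ he
  have : IsSimpleGroup (PSU 6 F 2) := Cfsg.Agent.S0283.result
    (by rw [hF]; norm_num : Fintype.card F = 2 ^ 2) 6 (by norm_num) (by norm_num)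
  set N := Q₀.subgroupOf W
  have hNn : N.Normal := ⟨fun x hx c => by
    rw [Subgroup.mem_subgroupOf] at hx ⊢
    exact hQ₀n c c.2 x hx⟩
  have hQ₀1 : ∀ x ∈ Q₀, x = 1 := by
    rcases (hNn.map ρ hρ).eq_bot_or_eq_top with h | h
    · intro x hx
      have h1 : ρ ⟨x, hQ₀W hx⟩ = 1 := by
        rw [← Subgroup.mem_bot, ← h]
        exact ⟨⟨x, hQ₀W hx⟩, Subgroup.mem_subgroupOf.2 hx, rfl⟩
      rcases (hρker _).1 h1 with h2 | h2
      · exact h2
      · exfalso
        refine Nat.not_even_iff_odd.2 hodd₀ (even_iff_two_dvd.2 ?_)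
        rw [← hE₀.1.1 _ he, ← show x = ψ q from h2]
        exact (Subgroup.orderOf_mk x hx) ▸ orderOf_dvd_natCard _
    · exfalso
      have hd : Nat.card (PSU 6 F 2) ∣ Nat.card Q₀ := by
        rw [← Subgroup.card_top, ← h, ← Nat.card_congr (Subgroup.subgroupOfEquivOfLe hQ₀W).toEquiv]
        exact Subgroup.card_map_dvd _ ρ
      rw [card_psu_six hF] at hd
      exact Nat.not_even_iff_odd.2 hodd₀ (even_iff_two_dvd.2 ((by norm_num : (2:ℕ) ∣ 9196830720).trans hd))
  rw [eq_bot_iff]
  intro y hy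
  rcases (hker ⟨y, hQC hy⟩).1 (hQ₀1 _ ⟨⟨y, hQC hy⟩, Subgroup.mem_subgroupOf.2 hy, rfl⟩) with h | h
  · exact Subgroup.mem_bot.2 h
  · exact absurd (T_group.1.1 p hp) (hno2 Q hodd p ((show y = p from h) ▸ hy))

/-- At most three transpositions multiply a given element, commuting, into a product of two. -/
theorem ncard_shift (k : X23) (hk : k ∉ T) :
    {f | f ∈ T ∧ Commute f k ∧ f * k ∈ J}.ncard ≤ 3 := by
  classical
  set S := {f | f ∈ T ∧ Commute f k ∧ f * k ∈ J}
  have hfac : ∀ f ∈ S, ∃ p q, f ∈ T ∧ p ∈ T ∧ q ∈ T ∧ Commute f p ∧ Commute f q ∧ Commute p q ∧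
      f ≠ p ∧ f ≠ q ∧ p ≠ q ∧ k = f * p * q := by
    rintro f ⟨hf, hfk, p, hp, q, hq, e⟩
    have hff := mul_self T_group.1 hf
    have hk' : k = f * (p * q) := by rw [← e, ← mul_assoc, hff, one_mul]
    have hfpq : Commute f (p * q) := by
      rw [← e]; exact (Commute.refl f).mul_right hfk
    obtain ⟨h1, h2⟩ := commute_factors hp hq hf hfpq
    refine ⟨p, q, hf, hp, hq.1, h1, h2, hq.2.2, fun h => hk ?_, fun h => hk ?_, hq.2.1.symm,
      by rw [hk', mul_assoc]⟩
    · rw [hk', h, ← mul_assoc, mul_self T_group.1 hp, one_mul]; exact hq.1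
    · rw [hk', h, hq.2.2.eq, ← mul_assoc, mul_self T_group.1 hq.1, one_mul]; exact hp
  rcases S.eq_empty_or_nonempty with h | ⟨f₀, hf₀⟩
  · rw [h]; simp
  obtain ⟨a, b, h0, ha, hb, c0a, c0b, cab, n0a, n0b, nab, e0⟩ := hfac f₀ hf₀
  refine (Set.ncard_le_ncard (t := {f₀, a, b}) (fun f hf => ?_) (Set.toFinite _)).trans ?_
  · obtain ⟨p, q, hf', hp, hq, cfp, cfq, cpq, nfp, nfq, npq, e⟩ := hfac f hf
    have := triple_unique T_group.1 T_data.noTwins T_data.noTwins2 h0 ha hb hf' hp hq c0a c0b cab n0a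
      n0b nab cfp cfq cpq nfp nfq npq (e0.symm.trans e)
    simpa using this
  · refine (Set.ncard_insert_le _ _).trans ?_
    have := Set.ncard_insert_le a ({b} : Set X23)
    rw [Set.ncard_singleton] at this
    omega

/-- The elements commuting with a transposition and turning into a product of two by it. -/
theorem ncard_K {x : X23} (hx : x ∈ T) :
    {k | Commute k x ∧ x * k ∈ J}.ncard ≤ 2435940 := by
  classical
  have hlay := T_layer hx
  set S := dperp T x
  set P : Set (X23 × X23) := {pq | pq.1 ∈ S ∧ pq.2 ∈ dperp S pq.1}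
  have hsub : {k | Commute k x ∧ x * k ∈ J} ⊆ S ∪ (fun pq : X23 × X23 => x * (pq.1 * pq.2)) '' P := by
    rintro k ⟨hkx, p, hp, q, hq, e⟩
    have hxx := mul_self T_group.1 hx
    have hk' : k = x * (p * q) := by rw [← e, ← mul_assoc, hxx, one_mul]
    rcases eq_or_ne x p with rfl | hxp
    · left
      rw [hk', ← mul_assoc, hxx, one_mul]
      exact hq
    rcases eq_or_ne x q with rfl | hxq
    · left
      rw [hk', hq.2.2.eq, ← mul_assoc, hxx, one_mul]
      exact ⟨hp, hq.2.1.symm, hq.2.2.symm⟩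
    right
    refine ⟨(p, q), ?_, hk'.symm⟩
    have hc : Commute x (p * q) := by rw [← e]; exact (Commute.refl x).mul_right hkx.symm
    obtain ⟨h1, h2⟩ := commute_factors hp hq hx hc
    exact ⟨⟨hp, Ne.symm hxp, h1⟩, ⟨hq.1, Ne.symm hxq, h2⟩, hq.2.1, hq.2.2⟩
  have hP : P.ncard ≤ 2432430 := by
    have e : P = ↑((Set.toFinite S).toFinset.biUnion fun p =>
        (Set.toFinite (dperp S p)).toFinset.image (Prod.mk p)) := by
      ext ⟨u, v⟩
      simp [P, and_comm]
    rw [e, Set.ncard_coe_finset]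
    refine (Finset.card_biUnion_le).trans ?_
    refine (Finset.sum_le_card_nsmul _ _ 693 fun p hp => ?_).trans ?_
    · refine Finset.card_image_le.trans ?_
      rw [← Set.ncard_eq_toFinset_card, hlay.card1 p ((Set.Finite.mem_toFinset _).1 hp)]
    · rw [← Set.ncard_eq_toFinset_card, hlay.card, smul_eq_mul]
  have hu := Set.ncard_le_ncard hsub (Set.toFinite _)
  have hun := Set.ncard_union_le S ((fun pq : X23 × X23 => x * (pq.1 * pq.2)) '' P)
  have him := Set.ncard_image_le (f := fun pq : X23 × X23 => x * (pq.1 * pq.2)) (Set.toFinite P)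
  have hS : S.ncard = 3510 := hlay.card
  omega

/-- The number of products. -/
theorem ncard_J : 55582605 ≤ J.ncard := by
  classical
  have : Fintype X23 := Fintype.ofFinite X23
  set P : Finset (X23 × X23) := Finset.univ.filter fun pq => pq.1 ∈ T ∧ pq.2 ∈ dperp T pq.1
  have hP : P.card = 31671 * 3510 := by
    have e : P = (Set.toFinite T).toFinset.biUnion fun p =>
        (Set.toFinite (dperp T p)).toFinset.image (Prod.mk p) := by
      ext ⟨u, v⟩
      simp [P]
    rw [e, Finset.card_biUnion, Finset.sum_congr rfl fun p hp => by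
      rw [Finset.card_image_of_injective _ fun _ _ h => (Prod.mk.inj h).2,
        ← Set.ncard_eq_toFinset_card,
        (T_layer ((Set.Finite.mem_toFinset _).1 hp)).card],
      Finset.sum_const, ← Set.ncard_eq_toFinset_card, T_card, smul_eq_mul]
    · intro i _ j _ hij
      rw [Function.onFun, Finset.disjoint_left]
      intro q hq1 hq2
      simp only [Finset.mem_image] at hq1 hq2
      obtain ⟨v, -, rfl⟩ := hq1
      obtain ⟨w, -, e⟩ := hq2
      exact hij (Prod.mk.inj e).1.symm
  have hJ : J = ↑(P.image fun pq => pq.1 * pq.2) := by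
    ext y
    simp only [J, P, Finset.coe_image, Set.mem_image, Set.mem_ofPred_eq, Finset.mem_coe,
      Finset.mem_filter, Finset.mem_univ, true_and]
    constructor
    · rintro ⟨p, hp, q, hq, rfl⟩; exact ⟨(p, q), ⟨hp, hq⟩, rfl⟩
    · rintro ⟨⟨p, q⟩, ⟨hp, hq⟩, rfl⟩; exact ⟨p, hp, q, hq, rfl⟩
  rw [hJ, Set.ncard_coe_finset]
  have h2 := Finset.card_le_mul_card_image (f := fun pq : X23 × X23 => pq.1 * pq.2) P 2 fun y hy => ?_
  · omega
  · obtain ⟨⟨p, q⟩, hpq, rfl⟩ := Finset.mem_image.1 hy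
    simp only [P, Finset.mem_filter, Finset.mem_univ, true_and] at hpq
    refine (Finset.card_le_card (t := {(p, q), (q, p)}) ?_).trans Finset.card_le_two
    rintro ⟨u, v⟩ huv
    simp only [P, Finset.mem_filter, Finset.mem_univ, true_and] at huv
    obtain ⟨⟨hu, hv⟩, e⟩ := huv
    have h := fun z => Factor.pair T_group.1 T_data.noTwins (factor_two hu hv)
      (e ▸ factor_two hpq.1 hpq.2) z
    have h1 := (h u).1 (by simp)
    have h2 := (h v).1 (by simp)
    simp only [List.mem_cons, List.not_mem_nil, or_false] at h1 h2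
    rcases h1 with rfl | rfl <;> rcases h2 with rfl | rfl
    · exact absurd rfl hv.2.1
    · simp
    · simp
    · exact absurd rfl hv.2.1

end Cfsg.Agent.M23Cent
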