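import Cfsg.Agent.M23Cent.Main
import Cfsg.Agent.M22Cent.Result

/-!
# The group is Fi₂₃ and the conjugates of the involution are its transpositions
-/

set_option autoImplicit false

open Cfsg
open Cfsg.Agent.ThreeTrans

universe u

namespace Cfsg.Agent.M23Cent

attribute [local instance] finite_X23

/-- The conclusion. -/
theorem exists_iso {G : Type u} [Group G] [Finite G] (d : G) (hd : orderOf d = 2)
    (hq : Cfsg.IsQuasisimple ↥(Subgroup.centralizer ({d} : Set G)))
    [((Subgroup.zpowers d).subgroupOf (Subgroup.centralizer ({d} : Set G))).Normal]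
    {E : Set (↥(Subgroup.centralizer ({d} : Set G)) ⧸
      (Subgroup.zpowers d).subgroupOf (Subgroup.centralizer ({d} : Set G)))}
    (hE : IsThreeTranspositionClass E) (h22 : IsOfTypeM22 _ E)
    (hnwc : ∃ g : G, g * d * g⁻¹ ∈ Subgroup.centralizer ({d} : Set G) ∧ g * d * g⁻¹ ≠ d) :
    ∃ f : X23 ≃* G, f '' T = conjugatesOf d := by
  have hL := exists_loc d hd hq hE h22 hnwc
  obtain ⟨φ, hφ, hT⟩ := hL.exists_embed (mem_conjugatesOf_self : d ∈ conjugatesOf d)
  refine ⟨MulEquiv.ofBijective φ ⟨hφ, MonoidHom.range_eq_top.1 (range_eq_top hL hφ hT)⟩, ?_⟩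
  rw [FischerTypes.class_of_map]
  have hdt : IsConj d (φ Fi23Out.z) := hT _ mem_conjugatesOf_self
  ext y
  simp only [MulEquiv.ofBijective_apply, conjugatesOf, Set.mem_ofPred_eq]
  exact ⟨fun h => hdt.trans h, fun h => hdt.symm.trans h⟩

end Cfsg.Agent.M23Cent
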