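import Cfsg.Agent.M22Cent.Local
import Cfsg.Agent.ThreeTrans.CoverM22Thompson
import Cfsg.Agent.ThreeTrans.BaseM23

/-!
# The conjugates of an involution whose centraliser is a double cover of a group of type M(22)
-/

set_option autoImplicit false

open Cfsg
open Cfsg.Agent.ThreeTrans

universe u

namespace Cfsg.Agent.M23Cent

variable {G : Type u} [Group G]

/-- What is known of a class of involutions from the centraliser of a member. -/
structure Loc (D : Set G) {X : Type u} [Group X] (E : Set X) : Prop where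
  sq : ∀ a ∈ D, a * a = 1
  ne : ∀ a ∈ D, a ≠ 1
  conj : ∀ g : G, ∀ a ∈ D, g * a * g⁻¹ ∈ D
  trans : ∀ a ∈ D, ∀ b ∈ D, ∃ g : G, g * a * g⁻¹ = b
  cls : IsThreeTranspositionClass E
  m22 : IsOfTypeM22 X E
  cov : ∀ b ∈ D, Cover23 D E b

/-- A cover of a member gives one of a conjugate. -/
theorem cover_conj {D : Set G} {X : Type u} [Group X] {E : Set X}
    (hc : ∀ g : G, ∀ a ∈ D, g * a * g⁻¹ ∈ D) {d : G} (h : Cover23 D E d) (g : G) :
    Cover23 D E (g * d * g⁻¹) := by
  obtain ⟨htop, hperf, χ, ψ, hχ, hker, hagree, hiso⟩ := h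
  have hC := M22Cent.centralizer_conj_eq g d
  have hiso' := setIso_conj hc g⁻¹ (g * d * g⁻¹)
  rw [show g⁻¹ * (g * d * g⁻¹) * g⁻¹⁻¹ = d by group] at hiso'
  refine ⟨?_, ?_, ?_⟩
  · rw [hC, htop, MonoidHom.map_closure]
    congr 1
    exact (setIso_conj hc g d).bij.image_eq
  · rw [hC, ← Subgroup.map_commutator, hperf]
  · have hmem : ∀ {x : G}, x ∈ Subgroup.centralizer ({g * d * g⁻¹} : Set G) →
        g⁻¹ * x * g⁻¹⁻¹ ∈ Subgroup.centralizer ({d} : Set G) := by
      intro x hx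
      rw [hC] at hx
      obtain ⟨y, hy, rfl⟩ := hx
      rwa [show g⁻¹ * (MulAut.conj g).toMonoidHom y * g⁻¹⁻¹ = y by simp [mul_assoc]]
    let ε : ↥(Subgroup.centralizer ({g * d * g⁻¹} : Set G)) →* ↥(Subgroup.centralizer ({d} : Set G)) :=
      MonoidHom.mk' (fun x => ⟨g⁻¹ * x * g⁻¹⁻¹, hmem x.2⟩) fun x y => Subtype.ext
        (show g⁻¹ * ((x : G) * y) * g⁻¹⁻¹ = g⁻¹ * (x : G) * g⁻¹⁻¹ * (g⁻¹ * (y : G) * g⁻¹⁻¹) by group)
    have hε : Function.Surjective ε := fun y => ⟨⟨g * y * g⁻¹, by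
      rw [hC]; exact ⟨y, y.2, rfl⟩⟩, Subtype.ext (show g⁻¹ * (g * (y : G) * g⁻¹) * g⁻¹⁻¹ = y by group)⟩
    refine ⟨χ.comp ε, ψ ∘ fun x => g⁻¹ * x * g⁻¹⁻¹, hχ.comp hε, fun x => ?_, fun x => hagree (ε x),
      hiso'.trans hiso⟩
    rw [MonoidHom.comp_apply, hker]
    show g⁻¹ * (x : G) * g⁻¹⁻¹ = 1 ∨ g⁻¹ * (x : G) * g⁻¹⁻¹ = d ↔ _
    rw [conj_eq_one_iff]
    refine or_congr Iff.rfl ⟨fun h => ?_, fun h => by rw [h]; group⟩
    calc (x : G) = g * (g⁻¹ * (x : G) * g⁻¹⁻¹) * g⁻¹ := by group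
      _ = g * d * g⁻¹ := by rw [h]

variable [Finite G]

/-- At most one of the two lifts of a member is conjugate to the involution. -/
theorem lift_unique (d : G) (hd : orderOf d = 2)
    [((Subgroup.zpowers d).subgroupOf (Subgroup.centralizer ({d} : Set G))).Normal]
    {E : Set (↥(Subgroup.centralizer ({d} : Set G)) ⧸
      (Subgroup.zpowers d).subgroupOf (Subgroup.centralizer ({d} : Set G)))}
    (hE : IsThreeTranspositionClass E) (h22 : IsOfTypeM22 _ E)
    (hperf : commutator ↥(Subgroup.centralizer ({d} : Set G)) = ⊤)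
    {c : ↥(Subgroup.centralizer ({d} : Set G))} (hcE : QuotientGroup.mk' _ c ∈ E)
    (hPc : IsConj d (c : G)) : ¬ IsConj d ((c : G) * d) := by
  classical
  intro hPcd
  have hd1 : d ≠ 1 := fun h => by rw [h, orderOf_one] at hd; omega
  let z : (Subgroup.centralizer ({d} : Set G)) := ⟨d, Subgroup.mem_centralizer_singleton_iff.2 rfl⟩
  set ξ := QuotientGroup.mk' ((Subgroup.zpowers d).subgroupOf (Subgroup.centralizer ({d} : Set G))) with hξ
  have hcov := cov_centralizer d hd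
  have hM : MCover ξ z E :=
    ⟨hcov, (QuotientGroup.eq_one_iff _).2 (Subgroup.mem_subgroupOf.2 (Subgroup.mem_zpowers d)),
      fun h => hd1 (congrArg Subtype.val h), fun c hc => by
        rcases eq_one_or_eq_d d hd hc with h | h
        · exact Or.inl (Subtype.ext h)
        · exact Or.inr (Subtype.ext h), hE, h22⟩
  set P : (Subgroup.centralizer ({d} : Set G)) → Prop := fun c => IsConj d (c : G) with hPdef
  have hP : ∀ h c, P c → P (h * c * h⁻¹) := fun h c hc => hc.trans (isConj_iff.2 ⟨h, by simp⟩)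
  have hnsq := (lift_conclusion d hd fun q hq' => lift_involution_M22 hcov hE h22 hq').2
  have hPsq : ∀ u, ¬ P (u * u) := fun u hu => hnsq (by
    obtain ⟨g, hg⟩ := isConj_iff.1 hu
    refine ⟨g⁻¹ * u * g, ?_⟩
    rw [sq, show g⁻¹ * (u : G) * g * (g⁻¹ * u * g) =
      g⁻¹ * ((u * u : (Subgroup.centralizer ({d} : Set G))) : G) * g by simp [mul_assoc], ← hg]
    group)
  obtain ⟨S⟩ : Nonempty (Sylow 2 ↥(Subgroup.centralizer ({d} : Set G))) := inferInstance
  obtain ⟨A0, -, hA0sq, hA0c, hfull, hM22, hconjK⟩ := hM.thompson S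
  set A : Subgroup G := A0.map (Subgroup.centralizer ({d} : Set G)).subtype with hA
  have hmemA : ∀ {a : G}, a ∈ A → ∃ c : (Subgroup.centralizer ({d} : Set G)), c ∈ A0 ∧ (c : G) = a :=
    fun {a} ha => by rw [hA] at ha; exact ha
  have hsq : ∀ a ∈ A, a * a = 1 := by
    intro a ha
    obtain ⟨c, hc, rfl⟩ := hmemA ha
    exact congrArg Subtype.val (hA0sq c hc)
  have hA0comm : ∀ {a b}, a ∈ A0 → b ∈ A0 → Commute a b := fun {a b} ha hb => by
    have e := inv_eq_of_mul_eq_one_left (hA0sq _ (mul_mem ha hb))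
    rw [mul_inv_rev, inv_eq_of_mul_eq_one_left (hA0sq _ ha), inv_eq_of_mul_eq_one_left (hA0sq _ hb)] at e
    exact e.symm
  have hcomm : ∀ a ∈ A, ∀ b ∈ A, Commute a b := by
    intro a ha b hb
    obtain ⟨c, hc, rfl⟩ := hmemA ha
    obtain ⟨c', hc', rfl⟩ := hmemA hb
    exact congrArg Subtype.val (hA0comm hc hc').eq
  have hAc : Nat.card A = 2048 := by
    rw [hA, Subgroup.card_map_of_injective (Subgroup.subtype_injective (Subgroup.centralizer ({d} : Set G))), hA0c]
  have htr1 : ∀ x ∈ A, IsConj d x → ∃ n ∈ Subgroup.normalizer (A : Set G), n * d * n⁻¹ = x := by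
    intro x hx hdx
    obtain ⟨g, hg⟩ := isConj_iff.1 hdx
    set A' : Subgroup G := A.map (MulAut.conj g⁻¹).toMonoidHom with hA'
    have hle : A' ≤ (Subgroup.centralizer ({d} : Set G)) := by
      rintro _ ⟨a, ha, rfl⟩
      show g⁻¹ * a * g⁻¹⁻¹ ∈ (Subgroup.centralizer ({d} : Set G))
      refine Subgroup.mem_centralizer_singleton_iff.2 ?_
      rw [show d = g⁻¹ * x * g by rw [← hg]; group]
      calc g⁻¹ * a * g⁻¹⁻¹ * (g⁻¹ * x * g) = g⁻¹ * (a * x) * g := by group
        _ = g⁻¹ * (x * a) * g := by rw [(hcomm a ha x hx).eq]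
        _ = g⁻¹ * x * g * (g⁻¹ * a * g⁻¹⁻¹) := by group
    obtain ⟨h, hh⟩ := hconjK (A'.subgroupOf (Subgroup.centralizer ({d} : Set G))) (fun c hc => by
        obtain ⟨a, ha, e⟩ := Subgroup.mem_subgroupOf.1 hc
        refine Subtype.ext ?_
        show (c : G) * c = 1
        rw [← e, ← map_mul, hsq a ha, map_one])
      (by rw [Nat.card_congr (Subgroup.subgroupOfEquivOfLe hle).toEquiv, hA',
        Subgroup.card_map_of_injective (MulAut.conj g⁻¹).injective, hAc])
    refine ⟨g * (h : G)⁻¹, ?_, ?_⟩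
    · rw [← inv_mem_iff, mul_inv_rev, inv_inv, Subgroup.mem_normalizer_iff_map_conj_eq]
      refine Subgroup.eq_of_le_of_card_ge ?_
        (Subgroup.card_map_of_injective (MulAut.conj ((h : G) * g⁻¹)).injective).ge
      rintro _ ⟨a, ha, rfl⟩
      show (h : G) * g⁻¹ * a * ((h : G) * g⁻¹)⁻¹ ∈ A
      have h1 : h * ⟨g⁻¹ * a * g⁻¹⁻¹, hle ⟨a, ha, rfl⟩⟩ * h⁻¹ ∈ A0 :=
        hh ▸ Subgroup.mem_map_of_mem (MulAut.conj h).toMonoidHom
          (K := A'.subgroupOf (Subgroup.centralizer ({d} : Set G)))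
          (x := ⟨g⁻¹ * a * g⁻¹⁻¹, hle ⟨a, ha, rfl⟩⟩) (Subgroup.mem_subgroupOf.2 ⟨a, ha, rfl⟩)
      rw [hA]
      exact ⟨_, h1, by simp [mul_assoc]⟩
    · have hdh : (h : G)⁻¹ * d * (h : G) = d := by
        rw [mul_assoc, ← Subgroup.mem_centralizer_singleton_iff.1 h.2, inv_mul_cancel_left]
      calc g * (h : G)⁻¹ * d * (g * (h : G)⁻¹)⁻¹ = g * ((h : G)⁻¹ * d * h) * g⁻¹ := by group
        _ = x := by rw [hdh, hg]
  -- move the member into the subgroup
  obtain ⟨m, hm, hmA⟩ : {m | m ∈ E ∧ m ∈ A0.map ξ}.Nonempty :=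
    Set.nonempty_of_ncard_ne_zero (by rw [hM22]; norm_num)
  obtain ⟨k, hk⟩ := class_isConj hE hcE hm
  obtain ⟨h₀, rfl⟩ := hM.cov.surj k
  set a := h₀ * c * h₀⁻¹ with hadef
  have hξa : ξ a = m := by rw [hadef, map_mul, map_mul, map_inv, hk]
  have ha : a ∈ A0 := hfull _ (hξa ▸ hmA)
  have haE : ξ a ∈ E := hξa ▸ hm
  have hPa : P a := hP h₀ c hPc
  have hPaz : P (a * z) := by
    have e : h₀ * (c * z) * h₀⁻¹ = a * z := by
      simp only [hadef, mul_assoc]
      rw [(hM.z_comm h₀⁻¹).eq]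
    rw [← e]
    exact hP h₀ _ hPcd
  -- another member
  obtain ⟨m', ⟨hm', hm'A⟩, hm'ne⟩ : ∃ m' ∈ {m | m ∈ E ∧ m ∈ A0.map ξ}, m' ≠ ξ a :=
    Set.exists_ne_of_one_lt_ncard (by rw [hM22]; norm_num) _
  obtain ⟨k', hk'⟩ := class_isConj hE haE hm'
  obtain ⟨h, rfl⟩ := hM.cov.surj k'
  set a' := h * a * h⁻¹ with ha'def
  have hξa' : ξ a' = m' := by rw [ha'def, map_mul, map_mul, map_inv, hk']
  have ha' : a' ∈ A0 := hfull _ (hξa' ▸ hm'A)
  have haA : (a : G) ∈ A := by rw [hA]; exact ⟨a, ha, rfl⟩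
  have ha'A : (a' : G) ∈ A := by rw [hA]; exact ⟨a', ha', rfl⟩
  obtain ⟨n, hn, hnd⟩ := htr1 _ ha'A (hP h a hPa)
  have hyA : n⁻¹ * (a : G) * n ∈ A := by
    have := (Subgroup.mem_normalizer_iff.1 (inv_mem hn) (a : G)).1 haA
    rwa [inv_inv] at this
  obtain ⟨b, hb, hby⟩ := hmemA hyA
  have hPb : P b := by
    show IsConj d (b : G)
    rw [hby]
    exact hPa.trans (isConj_iff.2 ⟨n⁻¹, by simp⟩)
  have hbne : b ≠ z := fun h => hm'ne (by
    have e : n⁻¹ * (a : G) * n = d := hby.symm.trans (congrArg Subtype.val h)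
    have e' : (a : G) = a' := by
      calc (a : G) = n * (n⁻¹ * (a : G) * n) * n⁻¹ := by group
        _ = (a' : G) := (congrArg (fun t => n * t * n⁻¹) e).trans hnd
    rw [← hξa', Subtype.ext e'])
  have hP1 : ¬ P 1 := fun h => hPsq 1 (by rwa [one_mul])
  have hbE : ξ b ∈ E := (hM.over_member hperf hPsq hPb (by rw [← map_mul, hA0sq b hb, map_one])).resolve_left
    fun h => by
      rcases hM.kern b h with rfl | rfl
      · exact hP1 hPb
      · exact hbne rfl
  have hPbz : P (b * z) := by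
    obtain ⟨k, hk⟩ := class_isConj hE haE hbE
    obtain ⟨h, rfl⟩ := hM.cov.surj k
    have hz : h * (a * z) * h⁻¹ = h * a * h⁻¹ * z := by
      simp only [mul_assoc]
      rw [(hM.z_comm h⁻¹).eq]
    obtain ⟨r, hr, er⟩ := Lift.exists_ker hM.cov
      (show ξ (h * a * h⁻¹) = ξ b by rw [map_mul, map_mul, map_inv, hk])
    rcases hM.kern r hr with rfl | rfl
    · rw [show b * z = h * (a * z) * h⁻¹ by rw [hz, er, mul_one]]
      exact hP h _ hPaz
    · rw [← er]
      exact hP h _ hPa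
  have hPaa : P (a * a') := by
    show IsConj d ((a : G) * (a' : G))
    refine IsConj.trans hPbz (isConj_iff.2 ⟨n, ?_⟩)
    show n * ((b : G) * d) * n⁻¹ = _
    rw [hby, ← hnd]
    group
  obtain ⟨u, hu⟩ := hM.pair_square hperf haE (b := ξ a') (by
      rw [hξa']
      refine ⟨hm', hm'ne, ?_⟩
      rw [← hξa']
      exact (hA0comm ha ha').map ξ) (c := a * a') (map_mul ξ a a')
  exact hPsq u (hu.symm ▸ hPaa)

/-- The class of an involution with quasisimple centraliser a double cover of a group of type M(22),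
not weakly closed in it, has these properties. -/
theorem exists_loc (d : G) (hd : orderOf d = 2)
    (hq : Cfsg.IsQuasisimple ↥(Subgroup.centralizer ({d} : Set G)))
    [((Subgroup.zpowers d).subgroupOf (Subgroup.centralizer ({d} : Set G))).Normal]
    {E : Set (↥(Subgroup.centralizer ({d} : Set G)) ⧸
      (Subgroup.zpowers d).subgroupOf (Subgroup.centralizer ({d} : Set G)))}
    (hE : IsThreeTranspositionClass E) (h22 : IsOfTypeM22 _ E)
    (hnwc : ∃ g : G, g * d * g⁻¹ ∈ Subgroup.centralizer ({d} : Set G) ∧ g * d * g⁻¹ ≠ d) :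
    Loc (conjugatesOf d) E := by
  classical
  have hd2 : d * d = 1 := by rw [← sq, ← hd]; exact pow_orderOf_eq_one d
  have hd1 : d ≠ 1 := fun h => by rw [h, orderOf_one] at hd; omega
  let z : (Subgroup.centralizer ({d} : Set G)) := ⟨d, Subgroup.mem_centralizer_singleton_iff.2 rfl⟩
  set ξ := QuotientGroup.mk' ((Subgroup.zpowers d).subgroupOf (Subgroup.centralizer ({d} : Set G))) with hξ
  have hcov := cov_centralizer d hd
  have hM : MCover ξ z E :=
    ⟨hcov, (QuotientGroup.eq_one_iff _).2 (Subgroup.mem_subgroupOf.2 (Subgroup.mem_zpowers d)),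
      fun h => hd1 (congrArg Subtype.val h), fun c hc => by
        rcases eq_one_or_eq_d d hd hc with h | h
        · exact Or.inl (Subtype.ext h)
        · exact Or.inr (Subtype.ext h), hE, h22⟩
  have hperf : commutator ↥(Subgroup.centralizer ({d} : Set G)) = ⊤ := hq.1.commutator_eq_top
  have hnsq := (lift_conclusion d hd fun q hq' => lift_involution_M22 hcov hE h22 hq').2
  set P : (Subgroup.centralizer ({d} : Set G)) → Prop := fun c => IsConj d (c : G) with hPdef
  have hPsq : ∀ u, ¬ P (u * u) := fun u hu => hnsq (by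
    obtain ⟨g, hg⟩ := isConj_iff.1 hu
    refine ⟨g⁻¹ * u * g, ?_⟩
    rw [sq, show g⁻¹ * (u : G) * g * (g⁻¹ * u * g) =
      g⁻¹ * ((u * u : (Subgroup.centralizer ({d} : Set G))) : G) * g by simp [mul_assoc], ← hg]
    group)
  have hsqD : ∀ a ∈ conjugatesOf d, a * a = 1 := by
    intro a ha
    obtain ⟨g, rfl⟩ := isConj_iff.1 ha
    rw [show g * d * g⁻¹ * (g * d * g⁻¹) = g * (d * d) * g⁻¹ by group, hd2]; group
  have hneD : ∀ a ∈ conjugatesOf d, a ≠ 1 := by
    intro a ha h1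
    obtain ⟨g, rfl⟩ := isConj_iff.1 ha
    exact hd1 (conj_eq_one_iff.1 h1)
  have hconjD : ∀ g : G, ∀ a ∈ conjugatesOf d, g * a * g⁻¹ ∈ conjugatesOf d := fun g a ha =>
    ha.trans (isConj_iff.2 ⟨g, rfl⟩)
  -- the partners are the conjugate lifts
  have hover : ∀ c : ↥(Subgroup.centralizer ({d} : Set G)), P c → (c : G) ≠ d → ξ c ∈ E := by
    intro c hc hne
    refine (hM.over_member hperf hPsq hc (by
      rw [← map_mul, show c * c = 1 from Subtype.ext (hsqD _ hc), map_one])).resolve_left fun h => ?_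
    rcases hM.kern c h with rfl | rfl
    · exact hneD _ hc rfl
    · exact hne rfl
  have hdperp : ∀ a : G, a ∈ dperp (conjugatesOf d) d ↔
      ∃ c : ↥(Subgroup.centralizer ({d} : Set G)), (c : G) = a ∧ P c ∧ ξ c ∈ E := by
    intro a
    constructor
    · rintro ⟨ha, hne, hc⟩
      exact ⟨⟨a, Subgroup.mem_centralizer_singleton_iff.2 hc.symm.eq⟩, rfl, ha, hover _ ha hne⟩
    · rintro ⟨c, rfl, hc, hcE⟩
      refine ⟨hc, fun h => ne_one hM.group.1 hcE ?_,
        (Subgroup.mem_centralizer_singleton_iff.1 c.2).symm⟩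
      rw [show c = z from Subtype.ext h, hM.z_map]
  obtain ⟨c₀, hc₀, hc₀E⟩ : ∃ c, P c ∧ ξ c ∈ E := by
    obtain ⟨g, hgC, hgd⟩ := hnwc
    exact ⟨⟨_, hgC⟩, isConj_iff.2 ⟨g, rfl⟩, hover ⟨_, hgC⟩ (isConj_iff.2 ⟨g, rfl⟩) hgd⟩
  let ψ : G → _ := fun x => if h : x ∈ Subgroup.centralizer ({d} : Set G) then ξ ⟨x, h⟩ else 1
  have hψ : ∀ x : ↥(Subgroup.centralizer ({d} : Set G)), ψ x = ξ x := fun x => dif_pos x.2
  have hiso : SetIso (dperp (conjugatesOf d) d) E ψ := by
    refine ⟨⟨?_, ?_, ?_⟩, ?_, ?_⟩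
    · intro a ha
      obtain ⟨c, rfl, -, hcE⟩ := (hdperp a).1 ha
      rw [hψ]; exact hcE
    · intro a ha b hb e
      obtain ⟨c, rfl, hc, hcE⟩ := (hdperp a).1 ha
      obtain ⟨c', rfl, hc', -⟩ := (hdperp b).1 hb
      rw [hψ, hψ] at e
      obtain ⟨k, hk, ek⟩ := Lift.exists_ker hM.cov e.symm
      rcases hM.kern k hk with rfl | rfl
      · rw [ek, mul_one]
      · exact absurd (ek ▸ hc' : P (c * z)) (lift_unique d hd hE h22 hperf hcE hc)
    · intro m hm
      obtain ⟨k, hk⟩ := class_isConj hE hc₀E hm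
      obtain ⟨h, rfl⟩ := hM.cov.surj k
      have e : ξ (h * c₀ * h⁻¹) = m := by rw [map_mul, map_mul, map_inv, hk]
      refine ⟨((h * c₀ * h⁻¹ : ↥(Subgroup.centralizer ({d} : Set G))) : G),
        (hdperp _).2 ⟨_, rfl, hc₀.trans (isConj_iff.2 ⟨h, by simp⟩), e ▸ hm⟩, ?_⟩
      rw [hψ, e]
    · intro a ha b hb
      obtain ⟨c, rfl, -, hcE⟩ := (hdperp a).1 ha
      obtain ⟨c', rfl, -, -⟩ := (hdperp b).1 hb
      rw [hψ, hψ]
      exact ⟨fun h => (hM.member_comm hcE rfl h).map (Subgroup.subtype _),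
        fun h => (show Commute c c' from Subtype.ext h.eq).map ξ⟩
    · intro a ha b hb
      obtain ⟨c, rfl, -, -⟩ := (hdperp a).1 ha
      obtain ⟨c', rfl, -, -⟩ := (hdperp b).1 hb
      rw [hψ, hψ, show ((c : G) * c' * c) = ((c * c' * c : ↥(Subgroup.centralizer ({d} : Set G))) : G)
        from rfl, hψ, map_mul, map_mul]
  have hcovd : Cover23 (conjugatesOf d) E d := by
    refine ⟨le_antisymm ?_ ?_, ?_, ξ, ψ, QuotientGroup.mk'_surjective _, fun x => ?_, hψ, hiso⟩
    · set L := (Subgroup.closure (dperp (conjugatesOf d) d)).subgroupOf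
        (Subgroup.centralizer ({d} : Set G))
      have htop : L.map ξ = ⊤ := by
        rw [eq_top_iff, ← hM.group.2.2, Subgroup.closure_le]
        intro m hm
        obtain ⟨a, ha, rfl⟩ := hiso.bij.surjOn hm
        obtain ⟨c, rfl, -, -⟩ := (hdperp a).1 ha
        exact ⟨c, Subgroup.mem_subgroupOf.2 (Subgroup.subset_closure ha), (hψ c).symm⟩
      intro g hg
      have h1 : (⟨g, hg⟩ : ↥(Subgroup.centralizer ({d} : Set G))) ∈ L :=
        M22Cent.commutator_le_of_map_top hcov L htop (by rw [hperf]; trivial)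
      exact Subgroup.mem_subgroupOf.1 h1
    · rw [Subgroup.closure_le]
      exact fun a ha => Subgroup.mem_centralizer_singleton_iff.2 ha.2.2.symm.eq
    · have h := congrArg (Subgroup.map (Subgroup.centralizer ({d} : Set G)).subtype) hperf
      rwa [commutator_def, Subgroup.map_commutator, ← MonoidHom.range_eq_map,
        Subgroup.range_subtype] at h
    · constructor
      · intro h
        exact eq_one_or_eq_d d hd h
      · rintro (h | h)
        · rw [show x = 1 from Subtype.ext h, map_one]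
        · rw [show x = z from Subtype.ext h, hM.z_map]
  refine ⟨hsqD, hneD, hconjD, fun a ha b hb => isConj_iff.1 ((show IsConj d a from ha).symm.trans hb),
    hE, h22, fun b hb => ?_⟩
  obtain ⟨g, rfl⟩ := isConj_iff.1 hb
  exact cover_conj hconjD hcovd g

end Cfsg.Agent.M23Cent
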