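import Cfsg.Agent.M23Cent.Config
import Cfsg.Agent.ThreeTrans.Y342.Iso
import Cfsg.Agent.FischerTypes.M23

/-!
# The presented Fi₂₃ inside a group with such a class, and a component of the commuting graph
-/

set_option autoImplicit false
set_option linter.unusedSectionVars false

open Cfsg
open Cfsg.Agent.ThreeTrans

universe u

namespace Cfsg.Agent.M23Cent

open Cfsg.Spor Cfsg.Spor.Fi23 Y332 Y342

/-- The presented group. -/
abbrev X23 : Type := Cfsg.Spor.Fi23

/-- Its transpositions. -/
abbrev T : Set X23 := FischerTypes.F23.D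

theorem finite_X23 : Finite X23 := Cfsg.Agent.CosetCert.Fi23Order.card_bound.1

theorem T_class : IsThreeTranspositionClass T := FischerTypes.F23.isClass

theorem T_group : IsThreeTranspositionGroup T := class_toGroup T_class

theorem T_type : IsOfTypeM23 X23 T := FischerTypes.F23.isM23

theorem T_prim : IsPrimitiveUnderConj T := FischerTypes.F23.primitive

theorem T_gen : (PresentedGroup.of Gen.a : X23) ∈ T := by
  have h : Fi23Out.gen 0 ∈ FischerTypes.F23.D := by
    rw [Fi23Out.gen_eq_tau 0 (by decide)]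
    exact FischerTypes.F23.tau_mem (Fi23Out.pt_lt 0 (by decide))
  exact h

variable {G : Type u} [Group G] [Finite G] {D : Set G} {X : Type u} [Group X] [Finite X] {E : Set X}

theorem Loc.closed (hL : Loc D E) {a : G} (ha : a ∈ D) : ClosedSet (dperp D a) := by
  obtain ⟨χ, ψ, -, -, -, hψ⟩ := (hL.cov a ha).maps
  have hE := class_toGroup hL.cls
  have hconj : ∀ x ∈ dperp D a, ∀ y ∈ dperp D a, x * y * x ∈ dperp D a := by
    intro x hx y hy
    have hxi : x⁻¹ = x := inv_eq_of_mul_eq_one_left (hL.sq x hx.1)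
    refine ⟨by simpa [hxi] using hL.conj x y hy.1, fun h => hy.2.1 ?_,
      (hx.2.2.mul_right hy.2.2).mul_right hx.2.2⟩
    calc y = x * x * y * (x * x) := by rw [hL.sq x hx.1, one_mul, mul_one]
      _ = x * (x * y * x) * x := by simp only [mul_assoc]
      _ = a := by rw [h, ← hx.2.2.eq, mul_assoc, hL.sq x hx.1, mul_one]
  refine ⟨⟨fun x hx => orderOf_eq_prime (by rw [pow_two]; exact hL.sq x hx.1) (hL.ne x hx.1),
    fun x hx y hy => ?_⟩, hconj⟩
  by_cases hxy : Commute x y
  · exact Or.inl (by rw [hxy.mul_pow, pow_two, pow_two, hL.sq x hx.1, hL.sq y hy.1, one_mul])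
  · refine Or.inr ?_
    have hb : x * y * x = y * x * y := hψ.bij.injOn (hconj x hx y hy) (hconj y hy x hx) (by
      rw [hψ.conj x hx y hy, hψ.conj y hy x hx]
      exact braid hE.1 (hψ.bij.mapsTo hx) (hψ.bij.mapsTo hy) fun h => hxy ((hψ.comm x hx y hy).1 h))
    calc (x * y) ^ 3 = x * y * x * (y * x * y) := by
          simp only [pow_succ, pow_zero, one_mul, mul_assoc]
      _ = x * (y * (x * x) * y) * x := by rw [← hb]; simp only [mul_assoc]
      _ = 1 := by rw [hL.sq x hx.1, mul_one, hL.sq y hy.1, mul_one, hL.sq x hx.1]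

/-- Relations between nine members of one layer. -/
theorem Loc.rels (hL : Loc D E) {n : ℕ → G} {w : G} (hw : w ∈ D) (hn : Cfg D n)
    (hnw : ∀ x < 9, n x ∈ dperp D w) : Rels n :=
  ⟨fun x hx => hL.sq _ (hn.mem x hx),
    fun x hx y hy h => braid (hL.closed hw).tri (hnw x hx) (hnw y hy) fun e => by
      rw [(hn.comm x hx y hy).1 e] at h; simp at h,
    fun x hx y hy h => (hn.comm x hx y hy).2 h⟩

/-- The presented group maps injectively, the transpositions going to members. -/
theorem Loc.exists_embed (hL : Loc D E) {d : G} (hd : d ∈ D) :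
    ∃ φ : X23 →* G, Function.Injective φ ∧ ∀ x ∈ T, φ x ∈ D := by
  have hE := class_toGroup hL.cls
  have h22 := hL.m22
  obtain ⟨w₀, hw₀, j₀, hj₀, hwj₀⟩ : ∃ w₀ ∈ dperp D d, ∃ j₀ ∈ dperp D d, ¬ Commute w₀ j₀ := by
    obtain ⟨χ, ψ, -, -, -, hψ⟩ := (hL.cov d hd).maps
    obtain ⟨a, ha, b, hb, hab, -⟩ := id h22.2
    obtain ⟨w₀, hw₀, rfl⟩ := hψ.bij.surjOn ha
    obtain ⟨j₀, hj₀, rfl⟩ := hψ.bij.surjOn hb
    exact ⟨w₀, hw₀, j₀, hj₀, fun h => hab ((hψ.comm w₀ hw₀ j₀ hj₀).2 h)⟩
  obtain ⟨n, w, j, hw, hj, hwj, hn, hnw, hnj⟩ := M23Cent.exists_cfg (fun t ht => hL.closed ht) hE h22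
    hL.cov hw₀.1 hj₀.1 hwj₀ ⟨d, dperp_symm hd hw₀, hj₀.2.2.symm⟩
  have hr := hL.rels hw hn hnw
  have hcov := hL.cov
  obtain ⟨χ, ψ, -, hker, hψχ, hψ⟩ := (hcov w hw).maps
  set m : ℕ → X := ψ ∘ n with hm
  have hmc : Cfg E m := ⟨fun x hx => hψ.bij.mapsTo (hnw x hx), fun x hx y hy =>
    (hψ.comm _ (hnw x hx) _ (hnw y hy)).trans (hn.comm x hx y hy)⟩
  have hev : ∀ v : List ℕ, (∀ x ∈ v, x < 9) → ∃ h : ev n v ∈ Subgroup.centralizer ({w} : Set G),
      χ ⟨ev n v, h⟩ = ev m v := by
    intro v
    induction v with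
    | nil => exact fun _ => ⟨one_mem _, map_one χ⟩
    | cons x v ih =>
      intro hv
      simp only [List.mem_cons, forall_eq_or_imp] at hv
      obtain ⟨h, he⟩ := ih hv.2
      have hx : n x ∈ Subgroup.centralizer ({w} : Set G) :=
        Subgroup.mem_centralizer_singleton_iff.2 (hnw x hv.1).2.2.symm.eq
      refine ⟨by rw [ev_cons]; exact mul_mem hx h, ?_⟩
      show χ (⟨n x, hx⟩ * ⟨ev n v, h⟩) = m x * ev m v
      rw [map_mul, he, show m x = χ ⟨n x, hx⟩ from hψχ ⟨n x, hx⟩]
  have hone : ∀ v : List ℕ, (∀ x ∈ v, x < 9) → ev m v = 1 → ev n v = 1 ∨ ev n v = w := by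
    intro v hv h1
    obtain ⟨h, he⟩ := hev v hv
    exact (hker ⟨_, h⟩).1 (he.trans h1)
  -- the relation on `a b c d e f h`
  have hx' : ev n wx' ^ 9 = 1 := by
    rw [← ev_pw]
    refine (hone _ (by decide) (pow_x' hE h22 hmc).1).resolve_right fun h => hwj ?_
    rw [← h]
    have hcm : ∀ v : List ℕ, (∀ x ∈ v, x < 9 ∧ x ≠ 6) → Commute (ev n v) j := by
      intro v
      induction v with
      | nil => exact fun _ => Commute.one_left j
      | cons x v ih =>
        intro hv
        simp only [List.mem_cons, forall_eq_or_imp] at hv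
        rw [ev_cons]
        exact ((hnj x hv.1.1).2 hv.1.2).mul_left (ih hv.2)
    rw [ev_pw]
    exact (hcm wx' wx'_ne).pow_left 9
  -- the spider relation
  have hθD : ev n wθ ∈ D := by
    have hU : ∀ x ∈ [7, 3, 4, 2, 3, 7, 5, 4, 3, 2], x < 9 := by decide
    rw [wθ_eq]
    generalize [7, 3, 4, 2, 3, 7, 5, 4, 3, 2] = U at hU ⊢
    rw [ev_append, ev_cons, ev_reverse hr hU, ← mul_assoc]
    exact hL.conj _ _ (hn.mem 1 (by norm_num))
  have hθ : ¬ Commute (n 8) (ev n wθ) := by
    intro h
    obtain ⟨h1, e1⟩ := hev wθ (by decide)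
    refine (moved_theta hE h22 hmc).2 ?_
    rw [← e1, show m 8 = χ ⟨n 8, Subgroup.mem_centralizer_singleton_iff.2 (hnw 8 (by norm_num)).2.2.symm.eq⟩
      from hψχ ⟨n 8, _⟩]
    exact Commute.map (Subtype.ext h.eq) χ
  have ht0 : ev n t0 ^ 3 = 1 := by
    rw [t0, ev_cons]
    obtain ⟨hθC, -⟩ := hev wθ (by decide)
    refine cube_of_not_commute (hL.closed hw).tri (hnw 8 (by norm_num)) ⟨hθD, fun e => hθ ?_,
      (Subgroup.mem_centralizer_singleton_iff.1 hθC).symm⟩ hθ
    rw [e]
    exact (hnw 8 (by norm_num)).2.2.symm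
  have hspider : ev n ws ^ 10 = 1 := by
    rw [← ev_pw]
    refine (hone _ ws_lt (by rw [ev_pw]; exact pow_spider hE h22 hmc)).resolve_right fun h => ?_
    have h3 := cube_spider hr (cube_t_of hr ht0)
    rw [h, hL.sq w hw, one_mul] at h3
    exact hL.ne w hw h3
  set f : Gen → G := fun x => if num x = 9 then j else n (num x) with hf
  have hfD : ∀ x, f x ∈ D := fun x => by
    rcases num_cases x with h | h
    · simp only [hf, h, if_true]; exact hj
    · simp only [hf, if_neg (by omega : num x ≠ 9)]; exact hn.mem _ h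
  have hcomm : ∀ x y, Commute (f x) (f y) ↔ (x = y ∨ adj10 (num x) (num y) = false) := by
    intro x y
    have hinj : num x = num y → x = y := by cases x <;> cases y <;> simp [num]
    rcases num_cases x with hx | hx <;> rcases num_cases y with hy | hy
    · simp [hf, hx, hy, hinj (hx.trans hy.symm), Commute.refl]
    · simp only [hf, hx, if_true, if_neg (by omega : num y ≠ 9), adj10]
      rw [Commute.symm_iff, hnj _ hy]
      have hne : x ≠ y := fun e => by subst e; omega
      simp [hne]
    · simp only [hf, hy, if_true, if_neg (by omega : num x ≠ 9), adj10]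
      rw [hnj _ hx]
      have hne : x ≠ y := fun e => by subst e; omega
      simp [hne]
    · simp only [hf, if_neg (by omega : num x ≠ 9), if_neg (by omega : num y ≠ 9), adj10]
      rw [hn.comm _ hx _ hy]
      refine ⟨Or.inr, ?_⟩
      rintro (rfl | h)
      · cases x <;> first | rfl | simp [num] at hx
      · exact h
  have hrel : ∀ r ∈ coxRelators edges ∪ {r | r ∈ extra}, FreeGroup.lift f r = 1 := by
    rintro r (⟨x, -, y, -, rfl⟩ | hr')
    · rw [map_pow, map_mul, FreeGroup.lift_apply_of, FreeGroup.lift_apply_of, label_eq]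
      split_ifs with hxy hadj
      · subst hxy
        rw [pow_one]
        exact hL.sq _ (hfD x)
      · have hnc : ¬ Commute (f x) (f y) := fun h => by
          rcases (hcomm x y).1 h with h | h
          · exact hxy h
          · rw [h] at hadj; simp at hadj
        -- a common neighbour
        obtain ⟨v, hv, hvx, hvy⟩ : ∃ v ∈ D, f x ∈ dperp D v ∧ f y ∈ dperp D v := by
          have hg : n 6 ∈ dperp D (n 0) := hn.dperp_mem (by norm_num) (by norm_num) rfl (by norm_num)
          have hj0 : j ∈ dperp D (n 0) := ⟨hj, fun e => hwj (e ▸ (hnw 0 (by norm_num)).2.2),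
            (hnj 0 (by norm_num)).2 (by norm_num)⟩
          rcases num_cases x with hx | hx <;> rcases num_cases y with hy | hy
          · rw [hx, hy] at hadj; simp [adj10] at hadj
          · have hy6 : num y = 6 := by simpa [adj10, hx] using hadj
            exact ⟨n 0, hn.mem 0 (by norm_num), by simp [hf, hx, hj0], by simp [hf, hy6, hg]⟩
          · have hx6 : num x = 6 := by
              have h' := hadj; simp [adj10, hy] at h'; exact h'.2
            exact ⟨n 0, hn.mem 0 (by norm_num), by simp [hf, hx6, hg], by simp [hf, hy, hj0]⟩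
          · exact ⟨w, hw, by simp only [hf, if_neg (by omega : num x ≠ 9)]; exact hnw _ hx,
              by simp only [hf, if_neg (by omega : num y ≠ 9)]; exact hnw _ hy⟩
        exact cube_of_not_commute (hL.closed hv).tri hvx hvy hnc
      · have h : Commute (f x) (f y) := (hcomm x y).2 (Or.inr (by simpa using hadj))
        rw [h.mul_pow, pow_two, pow_two, hL.sq _ (hfD x), one_mul, hL.sq _ (hfD y)]
    · simp only [extra, List.mem_cons, List.not_mem_nil, or_false, Set.mem_ofPred_eq] at hr'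
      rcases hr' with rfl | rfl
      · simp only [map_pow, map_mul, FreeGroup.lift_apply_of, hf, num]
        simpa [ev, ws, mul_assoc] using hspider
      · simp only [map_pow, map_mul, FreeGroup.lift_apply_of, hf, num]
        have hinv : ev n [7, 0, 1, 2, 3, 4, 5] ^ 9 = 1 := by
          rw [show [7, 0, 1, 2, 3, 4, 5] = wx'.reverse from rfl, ev_reverse hr (by decide), inv_pow,
            hx', inv_one]
        have e : n 0 * n 1 * n 2 * n 3 * n 4 * n 5 * n 7 =
            n 7 * ev n [7, 0, 1, 2, 3, 4, 5] * (n 7)⁻¹ := by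
          rw [inv_eq_of_mul_eq_one_right (hr.sq 7 (by norm_num))]
          simp only [ev_cons, ev_nil, mul_one, ← mul_assoc]
          rw [hr.sq 7 (by norm_num), one_mul]
        simp only [show (0 : ℕ) ≠ 9 from by decide, show (1 : ℕ) ≠ 9 from by decide,
          show (2 : ℕ) ≠ 9 from by decide, show (3 : ℕ) ≠ 9 from by decide,
          show (4 : ℕ) ≠ 9 from by decide, show (5 : ℕ) ≠ 9 from by decide,
          show (7 : ℕ) ≠ 9 from by decide, if_false]
        rw [e, conj_pow, hinv, mul_one, mul_inv_cancel]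
  set φ := PresentedGroup.toGroup hrel
  have hφ : ∀ x, φ (PresentedGroup.of x) = f x := fun x => PresentedGroup.toGroup.of hrel
  obtain ⟨hsimp, hcard⟩ := CosetCert.Fi23Order.order_and_simple
  have : IsSimpleGroup Spor.Fi23 := hsimp
  have hinj : Function.Injective φ := by
    rw [← MonoidHom.ker_eq_bot_iff]
    refine (φ.normal_ker.eq_bot_or_eq_top).resolve_right fun h => ?_
    refine hL.ne _ (hfD Gen.a) ?_
    have h' : PresentedGroup.of Gen.a ∈ φ.ker := h ▸ Subgroup.mem_top _
    rwa [MonoidHom.mem_ker, hφ] at h'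
  refine ⟨φ, hinj, fun x hx => ?_⟩
  obtain ⟨g, rfl⟩ := isConj_iff.1 ((show IsConj Fi23Out.z (PresentedGroup.of Gen.a) from T_gen).symm.trans hx)
  rw [map_mul, map_mul, map_inv]
  refine hL.conj _ _ ?_
  rw [hφ]
  exact hfD _

variable {φ : X23 →* G}

/-- The members commuting with the image of a transposition are images of transpositions. -/
theorem Loc.dperp_image (hL : Loc D E) (hφ : Function.Injective φ) (hT : ∀ x ∈ T, φ x ∈ D) {x : X23}
    (hx : x ∈ T) : dperp D (φ x) = φ '' dperp T x := by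
  have := finite_X23
  obtain ⟨χ, ψ, -, -, -, hψ⟩ := (hL.cov _ (hT x hx)).maps
  have hlay := hψ.m22Layer (m22Layer (class_toGroup hL.cls) hL.m22)
  obtain ⟨X₀, _, _, E₀, hE₀, -, h22₀, hcov₀⟩ := exists_cover23 T_group T_prim T_type
  refine (Set.eq_of_subset_of_ncard_le ?_ ?_ (Set.toFinite _)).symm
  · rintro _ ⟨y, ⟨hy, hne, hc⟩, rfl⟩
    exact ⟨hT y hy, fun h => hne (hφ h), hc.map φ⟩
  · rw [Set.ncard_image_of_injective _ hφ, hlay.card, (layers23 T_group hE₀ h22₀ hcov₀ x hx).card]

end Cfsg.Agent.M23Cent
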