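import Cfsg.Agent.M23Cent.Pair

/-!
# Fi₂₃ from the centraliser of a transposition

A member outside the component would give more products of two commuting members than fit.
-/

set_option autoImplicit false
set_option linter.unusedSectionVars false

open Cfsg
open Cfsg.Agent.ThreeTrans

universe u

namespace Cfsg.Agent.M23Cent

attribute [local instance] finite_X23

variable {G : Type u} [Group G] [Finite G] {D : Set G} {X : Type u} [Group X] [Finite X] {E : Set X}
  (hL : Loc D E) {φ : X23 →* G}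
  (hφ : Function.Injective φ) (hT : ∀ x ∈ T, φ x ∈ D)

include hL hφ hT

/-- An element carrying a product of two commuting members into the subgroup lies in it. -/
theorem mem_range_of_J {g : G} {j y : X23} (hj : j ∈ J) (h : g * φ j * g⁻¹ = φ y) : g ∈ φ.range := by
  have hy : y * y = 1 := hφ (by
    rw [map_mul, map_one, ← h, show g * φ j * g⁻¹ * (g * φ j * g⁻¹) = g * φ (j * j) * g⁻¹ by
      rw [map_mul]; group, J_sq hj, map_one, mul_one, mul_inv_cancel])
  obtain ⟨x, hx, hc⟩ := exists_commute hy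
  have hmem : g⁻¹ * φ x * g ∈ Subgroup.centralizer ({φ j} : Set G) := by
    refine Subgroup.mem_centralizer_singleton_iff.2 ?_
    have e : φ j = g⁻¹ * φ y * g := by rw [← h]; group
    rw [e]
    calc g⁻¹ * φ x * g * (g⁻¹ * φ y * g) = g⁻¹ * (φ x * φ y) * g := by group
      _ = g⁻¹ * φ y * g * (g⁻¹ * φ x * g) := by rw [← (hc.map φ).eq]; group
  obtain ⟨z, hz⟩ := centralizer_J_le hL hφ hT hj hmem
  have hzT : z ∈ T := mem_T_of_mem hL hφ hT (by
    rw [hz]
    simpa using hL.conj g⁻¹ _ (hT x hx))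
  have := mem_range_of_move hL hφ hT hx hzT (g := g⁻¹) (by rw [inv_inv, hz])
  simpa using inv_mem this

/-- The subgroup is the whole group. -/
theorem range_eq_top : φ.range = ⊤ := by
  classical
  by_contra hne
  obtain ⟨g, hg⟩ : ∃ g, g ∉ φ.range := by
    by_contra h
    push Not at h
    exact hne ((Subgroup.eq_top_iff' _).2 h)
  obtain ⟨x, hx⟩ : ∃ x, x ∈ T := ⟨Fi23Out.z, mem_conjugatesOf_self⟩
  set s := φ x with hs
  have hss : s * s = 1 := hL.sq _ (hT x hx)
  have hso : orderOf s = 2 := orderOf_eq_prime (by rw [sq]; exact hss) (hL.ne _ (hT x hx))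
  -- each product gives an element and a transposition
  have key : ∀ j ∈ J, ∃ k, (Commute k x ∧ x * k ∈ J) ∧ ∃ k₂, g⁻¹ * φ k * g = φ k₂ ∧ k₂ ∉ T ∧
      ∃ f, (f ∈ T ∧ Commute f k₂ ∧ f * k₂ ∈ J) ∧ j = f * k₂ := by
    intro j hj
    set u := g * φ j * g⁻¹ with hu
    have huu : u * u = 1 := by
      rw [hu, show g * φ j * g⁻¹ * (g * φ j * g⁻¹) = g * φ (j * j) * g⁻¹ by rw [map_mul]; group,
        J_sq hj, map_one, mul_one, mul_inv_cancel]
    have huD : u ∉ D := fun h => J_notMem hj (mem_T_of_mem hL hφ hT (by simpa [hu, mul_assoc] using hL.conj g⁻¹ _ h))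
    have hu1 : u ≠ 1 := fun h => by
      obtain ⟨p, hp, q, hq, rfl⟩ := hj
      rw [hu, conj_eq_one_iff, map_eq_one_iff φ hφ] at h
      exact hq.2.1 (by rw [eq_inv_of_mul_eq_one_right h, inv_eq T_group.1 hp])
    have huo : orderOf u = 2 := orderOf_eq_prime (by rw [sq]; exact huu) hu1
    have hout : u ∉ φ.range := fun ⟨y, hy⟩ => hg (mem_range_of_J hL hφ hT hj hy.symm)
    set r := s * u with hr
    have hconjs : ∀ i : ℕ, r ^ i * s * (r ^ i)⁻¹ = r ^ (2 * i) * s := by
      intro i
      have h1 : s * r * s⁻¹ = r⁻¹ := by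
        rw [hr, inv_eq_of_mul_eq_one_left hss, mul_inv_rev, inv_eq_of_mul_eq_one_left hss,
          inv_eq_of_mul_eq_one_left huu, ← mul_assoc, hss, one_mul]
      have h2 : s * (r ^ i)⁻¹ * s⁻¹ = r ^ i := by
        rw [← inv_pow, ← conj_pow, show s * r⁻¹ * s⁻¹ = (s * r * s⁻¹)⁻¹ by group, h1, inv_inv]
      calc r ^ i * s * (r ^ i)⁻¹ = r ^ i * (s * (r ^ i)⁻¹ * s⁻¹) * s := by group
        _ = r ^ (2 * i) * s := by rw [h2, two_mul, pow_add]
    have heven : Even (orderOf r) := by
      by_contra hodd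
      rw [Nat.not_even_iff_odd] at hodd
      refine huD ?_
      obtain ⟨c, -, hc⟩ := Cfsg.Agent.Invol.exists_conj_of_odd hso huo hodd
      exact hc ▸ hL.conj c _ (hT x hx)
    obtain ⟨m, hm⟩ := heven
    have hr0 : 0 < orderOf r := orderOf_pos r
    set z := r ^ m with hz
    have hz1 : z ≠ 1 := fun h => by
      have := Nat.le_of_dvd (by omega) (orderOf_dvd_of_pow_eq_one h)
      omega
    have hzz : z * z = 1 := by rw [hz, ← pow_add, ← hm, pow_orderOf_eq_one]
    have hsz : Commute s z := by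
      have h1 : s * z * s⁻¹ = z⁻¹ := by
        rw [hz, ← conj_pow, ← inv_pow]
        congr 1
        rw [hr, inv_eq_of_mul_eq_one_left hss, mul_inv_rev, inv_eq_of_mul_eq_one_left hss,
          inv_eq_of_mul_eq_one_left huu, ← mul_assoc, hss, one_mul]
      rw [inv_eq_of_mul_eq_one_left hzz] at h1
      exact mul_inv_eq_iff_eq_mul.1 h1
    have hrz : Commute r z := (Commute.refl r).pow_right m
    have huz : Commute u z := by
      have : u = s * r := by rw [hr, ← mul_assoc, hss, one_mul]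
      rw [this]; exact hsz.mul_left hrz
    -- the element in the component
    have hzs : z ∈ Subgroup.centralizer ({s} : Set G) :=
      Subgroup.mem_centralizer_singleton_iff.2 hsz.symm.eq
    rw [(hL.cov _ (hT x hx)).top, hL.dperp_image hφ hT hx, ← MonoidHom.map_closure] at hzs
    obtain ⟨k, -, hk⟩ := hzs
    have hkx : Commute k x := hφ (by rw [map_mul, map_mul, hk]; exact hsz.symm.eq)
    -- the parity
    have hmodd : Odd m := by
      by_contra hme
      rw [Nat.not_odd_iff_even] at hme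
      obtain ⟨i, hi⟩ := hme
      have hzsD : φ (k * x) ∈ D := by
        rw [map_mul, hk, hz, hi, ← two_mul, ← hconjs]
        exact hL.conj _ _ (hT x hx)
      have hkxT := mem_T_of_mem hL hφ hT hzsD
      have hkJ : k ∈ J := by
        refine ⟨k * x, hkxT, x, ⟨hx, fun e => hz1 ?_, hkx.mul_left (Commute.refl x)⟩, ?_⟩
        · rw [← hk, show k = 1 from mul_eq_right.1 e.symm, map_one]
        · rw [mul_assoc, mul_self T_group.1 hx, mul_one]
      exact hout (centralizer_J_le hL hφ hT hkJ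
        (Subgroup.mem_centralizer_singleton_iff.2 (hk ▸ huz.eq)))
    obtain ⟨i, hi⟩ := hmodd
    have hzu : z * u ∈ D := by
      have e : z * u = r ^ (2 * i) * s := by
        rw [hz, hi, pow_succ, mul_assoc]
        congr 1
        have hru : r * u = s := by rw [hr, mul_assoc, huu, mul_one]
        exact hru
      rw [e, ← hconjs]
      exact hL.conj _ _ (hT x hx)
    -- `s z` is conjugate to `u`
    have hszJ : x * k ∈ J := by
      have e : s * z = (r ^ i)⁻¹ * u * r ^ i := by
        have h1 : u * r * u⁻¹ = r⁻¹ := by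
          rw [hr, mul_inv_rev s u, inv_eq_of_mul_eq_one_left hss]
          simp only [mul_assoc, mul_inv_cancel, mul_one]
          rw [inv_eq_of_mul_eq_one_left huu]
        have h2 : u * r ^ i * u⁻¹ = (r ^ i)⁻¹ := by rw [← conj_pow, h1, inv_pow]
        have h3 : (r ^ i)⁻¹ * u * r ^ i = (r ^ (2 * i))⁻¹ * u := by
          calc (r ^ i)⁻¹ * u * r ^ i = (r ^ i)⁻¹ * (u * r ^ i * u⁻¹) * u := by group
            _ = _ := by rw [h2, two_mul, pow_add, mul_inv_rev]
        rw [h3, hsz.eq]
        have hzi : z = (r ^ (2 * i))⁻¹ * r⁻¹ := by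
          rw [← mul_inv_rev, ← pow_succ', ← hi, ← hz, inv_eq_of_mul_eq_one_left hzz]
        rw [hzi, mul_assoc]
        congr 1
        rw [hr, mul_inv_rev, inv_eq_of_mul_eq_one_left huu, inv_eq_of_mul_eq_one_left hss, mul_assoc,
          hss, mul_one]
      have e' : (r ^ i)⁻¹ * g * φ j * ((r ^ i)⁻¹ * g)⁻¹ = φ (x * k) := by
        rw [map_mul, hk, ← hs, e, hu]; group
      obtain ⟨c, hc⟩ := mem_range_of_J hL hφ hT hj e'
      rw [← hc] at e'
      rw [← map_inv, ← map_mul, ← map_mul] at e'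
      obtain ⟨p, hp, q, hq, rfl⟩ := hj
      rw [← hφ e']
      refine ⟨c * p * c⁻¹, T_group.2.1 c p hp, c * q * c⁻¹, ⟨T_group.2.1 c q hq.1,
        fun h => hq.2.1 (by simpa using h), (Commute.conj_iff c).2 hq.2.2⟩, by group⟩
    refine ⟨k, ⟨hkx, hszJ⟩, ?_⟩
    -- pull back by `g`
    set w := g⁻¹ * z * g with hw
    have hwj : Commute (φ j) w := by
      have := (Commute.conj_iff g⁻¹).2 huz
      simpa [hw, hu, mul_assoc] using this
    obtain ⟨k₂, hk₂⟩ := centralizer_J_le hL hφ hT hj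
      (Subgroup.mem_centralizer_singleton_iff.2 hwj.symm.eq)
    have hfD : φ (k₂ * j) ∈ D := by
      have := hL.conj g⁻¹ _ hzu
      rw [inv_inv] at this
      rw [map_mul, hk₂, hw]
      simpa [hu, mul_assoc] using this
    have hfT := mem_T_of_mem hL hφ hT hfD
    have hk₂k₂ : k₂ * k₂ = 1 := hφ (by
      rw [map_mul, map_one, hk₂, hw, show g⁻¹ * z * g * (g⁻¹ * z * g) = g⁻¹ * (z * z) * g by group, hzz]
      group)
    have hcj : Commute j k₂ := hφ (by rw [map_mul, map_mul, hk₂]; exact hwj.eq)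
    refine ⟨k₂, by rw [hk, hk₂], fun hk₂T => ?_, k₂ * j, ⟨hfT, ?_, ?_⟩, ?_⟩
    · -- a member commuting with `u`
      have hzD : φ k ∈ D := by
        have := hL.conj g _ (hT _ hk₂T)
        rw [hk₂, hw] at this
        rw [hk]; simpa [mul_assoc] using this
      have hkT := mem_T_of_mem hL hφ hT hzD
      refine hout ?_
      have hmem : u ∈ Subgroup.centralizer ({φ k} : Set G) :=
        Subgroup.mem_centralizer_singleton_iff.2 (hk ▸ huz.eq)
      rw [(hL.cov _ hzD).top, hL.dperp_image hφ hT hkT, ← MonoidHom.map_closure] at hmem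
      obtain ⟨y, -, hy⟩ := hmem
      exact ⟨y, hy⟩
    · exact (Commute.refl k₂).mul_left hcj
    · rw [hcj.symm.eq, mul_assoc, hk₂k₂, mul_one]; exact hj
    · rw [hcj.symm.eq, mul_assoc, hk₂k₂, mul_one]
  -- the count
  have : Fintype X23 := Fintype.ofFinite X23
  set K := {k | Commute k x ∧ x * k ∈ J}
  set K' := {k₂ : X23 | k₂ ∉ T ∧ ∃ k ∈ K, g⁻¹ * φ k * g = φ k₂}
  have hK' : K'.ncard ≤ 2435940 := by
    refine le_trans ?_ (ncard_K hx)
    have hpre : ∀ k₂ ∈ K', ∃ k ∈ K, g⁻¹ * φ k * g = φ k₂ := fun k₂ hk₂ => hk₂.2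
    choose! back hback hbe using hpre
    exact Set.ncard_le_ncard_of_injOn back hback
      (fun a ha b hb e => hφ (by rw [← hbe a ha, e, hbe b hb])) (Set.toFinite _)
  have hcover : J.toFinite.toFinset ⊆ K'.toFinite.toFinset.biUnion fun k₂ =>
      ({f | f ∈ T ∧ Commute f k₂ ∧ f * k₂ ∈ J}.toFinite.toFinset.image fun f => f * k₂) := by
    intro j hj
    rw [Set.Finite.mem_toFinset] at hj
    obtain ⟨k, hk, k₂, hkk, hk₂, f, hf, rfl⟩ := key j hj
    simp only [Finset.mem_biUnion, Finset.mem_image, Set.Finite.mem_toFinset]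
    exact ⟨k₂, ⟨hk₂, k, hk, hkk⟩, f, hf, rfl⟩
  have h1 := Finset.card_le_card hcover
  have h2 := (Finset.card_biUnion_le (s := K'.toFinite.toFinset) (t := fun k₂ =>
      ({f | f ∈ T ∧ Commute f k₂ ∧ f * k₂ ∈ J}.toFinite.toFinset.image fun f => f * k₂))).trans
    (Finset.sum_le_card_nsmul _ _ 3 fun k₂ hk₂ => Finset.card_image_le.trans (by
      rw [← Set.ncard_eq_toFinset_card]
      exact ncard_shift k₂ ((Set.Finite.mem_toFinset _).1 hk₂).1))
  rw [← Set.ncard_eq_toFinset_card] at h1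
  have h2' := h1.trans h2
  rw [← Set.ncard_eq_toFinset_card, smul_eq_mul] at h2'
  have := ncard_J
  omega

end Cfsg.Agent.M23Cent
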